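import Cfsg.Agent.Lib.Bender.Full.PermM.Setup

/-!
# Stabilizers of linear characters against centralizers of elements

For a coprime action on an abelian group a nontrivial fixed linear character yields a nontrivial
fixed element, and two acting groups with the same fixed elements fix the same linear characters.
-/

set_option autoImplicit false
set_option linter.unusedSectionVars false

namespace CfsgLib.Bender.Full.PermM

open Cfsg CfsgLib.Char CfsgLib.Bender.End Subgroup

attribute [local instance 1100] Fintype.ofFinite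

universe u

namespace Split

variable {L : Type u} [Group L] [Finite L] (S : Split L)

/-- The norm of an element of the kernel. -/
noncomputable def norm (T : Subgroup L) (m : S.cp.ker) : S.cp.ker :=
  letI : CommGroup S.cp.ker := { (inferInstance : Group S.cp.ker) with mul_comm := S.comm }
  ∏ τ : T, MulAut.conjNormal (τ : L) m

theorem norm_conj (T : Subgroup L) (γ : T) (m : S.cp.ker) :
    S.norm T (MulAut.conjNormal (γ : L) m) = S.norm T m := by
  letI : CommGroup S.cp.ker := { (inferInstance : Group S.cp.ker) with mul_comm := S.comm }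
  simp only [norm]
  refine Fintype.prod_equiv (Equiv.mulRight γ) _ _ fun τ => ?_
  rw [Equiv.coe_mulRight, Subgroup.coe_mul, map_mul, MulAut.mul_apply]

theorem conj_norm (T : Subgroup L) (γ : T) (m : S.cp.ker) :
    MulAut.conjNormal (γ : L) (S.norm T m) = S.norm T m := by
  letI : CommGroup S.cp.ker := { (inferInstance : Group S.cp.ker) with mul_comm := S.comm }
  simp only [norm, map_prod]
  refine Fintype.prod_equiv (Equiv.mulLeft γ) _ _ fun τ => ?_
  rw [Equiv.coe_mulLeft, Subgroup.coe_mul, map_mul, MulAut.mul_apply]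

theorem norm_fixed (T : Subgroup L) {a : S.cp.ker}
    (h : ∀ τ : T, MulAut.conjNormal (τ : L) a = a) : S.norm T a = a ^ Nat.card T := by
  letI : CommGroup S.cp.ker := { (inferInstance : Group S.cp.ker) with mul_comm := S.comm }
  simp only [norm]
  rw [Finset.prod_congr rfl fun τ _ => h τ, Finset.prod_const, Finset.card_univ,
    ← Nat.card_eq_fintype_card]

theorem norm_norm {P T : Subgroup L} (hPT : P ≤ T) (m : S.cp.ker) :
    S.norm T (S.norm P m) = S.norm T m ^ Nat.card P := by
  letI : CommGroup S.cp.ker := { (inferInstance : Group S.cp.ker) with mul_comm := S.comm }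
  let n : S.cp.ker →* S.cp.ker := MonoidHom.mk' (S.norm T) fun a b => by
    simp only [norm, map_mul, Finset.prod_mul_distrib]
  show n (S.norm P m) = n m ^ Nat.card P
  simp only [norm, map_prod]
  refine (Finset.prod_congr rfl fun (τ : P) _ => S.norm_conj T ⟨τ, hPT τ.2⟩ m).trans ?_
  rw [Finset.prod_const, Finset.card_univ, ← Nat.card_eq_fintype_card]
  rfl

theorem lam_norm {T : Subgroup L} {lam : S.cp.ker →* ℂˣ} (hT : T ≤ linStab lam) (m : S.cp.ker) :
    lam (S.norm T m) = lam m ^ Nat.card T := by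
  letI : CommGroup S.cp.ker := { (inferInstance : Group S.cp.ker) with mul_comm := S.comm }
  simp only [norm, map_prod]
  have h : ∀ τ : T, lam (MulAut.conjNormal (τ : L) m) = lam m := fun τ =>
    DFunLike.congr_fun (show conjLin lam (τ : L) = lam from hT τ.2) m
  rw [Finset.prod_congr rfl fun τ _ => h τ, Finset.prod_const, Finset.card_univ,
    ← Nat.card_eq_fintype_card]

theorem eq_one_of_pow {T : Subgroup L} (hT : T ≤ S.cp.range) {z : ℂˣ}
    (h1 : z ^ Nat.card S.cp.ker = 1) (h2 : z ^ Nat.card T = 1) : z = 1 :=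
  orderOf_eq_one_iff.1 (Nat.eq_one_of_dvd_coprimes
    (Nat.Coprime.coprime_dvd_right (Subgroup.card_dvd_of_le hT) S.cop)
    (orderOf_dvd_of_pow_eq_one h1) (orderOf_dvd_of_pow_eq_one h2))

theorem conjNormal_eq_iff (γ : L) (a : S.cp.ker) :
    MulAut.conjNormal γ a = a ↔ Commute γ (a : L) := by
  rw [Subtype.ext_iff, MulAut.conjNormal_apply, mul_inv_eq_iff_eq_mul]
  rfl

/-- Stabilizers of linear characters inherit the structure of centralizers of elements. -/
theorem st_of_elements (C0 : Subgroup L) (hC0 : C0 ≤ S.cp.range)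
    (hst : ∀ a : S.cp.ker, a ≠ 1 →
      S.cp.range ⊓ Subgroup.centralizer {(a : L)} ≤ C0 ∧
      ((∀ x y : ↥(S.cp.range ⊓ Subgroup.centralizer {(a : L)}), x * y = y * x) ∨
        S.cp.range ⊓ Subgroup.centralizer {(a : L)} = C0))
    (lam : S.cp.ker →* ℂˣ) (hlam : lam ≠ 1) :
    S.St lam ≤ C0 ∧ ((∀ x y : S.St lam, x * y = y * x) ∨ S.St lam = C0) := by
  have hP : S.St lam ≤ S.cp.range := inf_le_right
  have hPl : S.St lam ≤ linStab lam := inf_le_left
  have hle : ∀ a : S.cp.ker, (∀ τ : S.St lam, MulAut.conjNormal (τ : L) a = a) →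
      S.St lam ≤ S.cp.range ⊓ Subgroup.centralizer {(a : L)} := fun a h τ hτ =>
    ⟨hP hτ, Subgroup.mem_centralizer_singleton_iff.2 ((S.conjNormal_eq_iff τ a).1 (h ⟨τ, hτ⟩)).eq⟩
  obtain ⟨m, hm⟩ : ∃ m, lam m ≠ 1 := by
    by_contra h
    push Not at h
    exact hlam (MonoidHom.ext h)
  set a := S.norm (S.St lam) m with ha
  have ha1 : a ≠ 1 := fun e => hm (S.eq_one_of_pow hP
    (by rw [← map_pow, pow_card_eq_one', map_one])
    (by rw [← S.lam_norm hPl, ← ha, e, map_one]))
  have h0 : S.St lam ≤ C0 :=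
    (hle a fun τ => S.conj_norm _ τ m).trans (hst a ha1).1
  refine ⟨h0, ?_⟩
  by_cases hab : ∀ x y : S.St lam, x * y = y * x
  · exact Or.inl hab
  refine Or.inr (le_antisymm h0 ?_)
  -- every element fixed by `St lam` is fixed by `C0`
  have hfix : ∀ b : S.cp.ker, (∀ τ : S.St lam, MulAut.conjNormal (τ : L) b = b) →
      ∀ γ : C0, MulAut.conjNormal (γ : L) b = b := by
    intro b hb γ
    rcases eq_or_ne b 1 with rfl | hb1
    · exact map_one _
    have hnab : ¬ ∀ x y : ↥(S.cp.range ⊓ Subgroup.centralizer {(b : L)}), x * y = y * x := fun h =>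
      hab fun x y => Subtype.ext
        (congrArg Subtype.val (h ⟨x, hle b hb x.2⟩ ⟨y, hle b hb y.2⟩) :)
    have he := (hst b hb1).2.resolve_left hnab
    have hmem : (γ : L) ∈ S.cp.range ⊓ Subgroup.centralizer {(b : L)} := he ▸ γ.2
    exact (S.conjNormal_eq_iff _ b).2 (Subgroup.mem_centralizer_singleton_iff.1 hmem.2)
  intro γ hγ
  refine ⟨?_, hC0 hγ⟩
  show conjLin lam γ = lam
  refine MonoidHom.ext fun x => ?_
  have key : ∀ y, lam y ^ (Nat.card (S.St lam) * Nat.card C0) =
      lam (S.norm C0 y) ^ Nat.card (S.St lam) := by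
    intro y
    rw [pow_mul, ← S.lam_norm hPl, ← map_pow,
      ← S.norm_fixed C0 (hfix _ fun τ => S.conj_norm _ τ y), S.norm_norm h0, map_pow]
  have h1 : (lam (MulAut.conjNormal γ x) * (lam x)⁻¹) ^ Nat.card S.cp.ker = 1 := by
    rw [mul_pow, inv_pow, ← map_pow lam, ← map_pow lam, pow_card_eq_one', pow_card_eq_one',
      map_one, inv_one, one_mul]
  have h2 : lam (MulAut.conjNormal γ x) ^ (Nat.card (S.St lam) * Nat.card C0) =
      lam x ^ (Nat.card (S.St lam) * Nat.card C0) := by
    rw [key, key, S.norm_conj C0 ⟨γ, hγ⟩ x]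
  show lam (MulAut.conjNormal γ x) = lam x
  set z := lam (MulAut.conjNormal γ x) * (lam x)⁻¹ with hz
  have h3 : z ^ (Nat.card (S.St lam) * Nat.card C0) = 1 := by
    rw [hz, mul_pow, inv_pow, h2, mul_inv_cancel]
  rw [pow_mul] at h3
  have h4 : z ^ Nat.card (S.St lam) = 1 :=
    S.eq_one_of_pow hC0 (by rw [← pow_mul, mul_comm, pow_mul, h1, one_pow]) h3
  exact mul_inv_eq_one.1 (S.eq_one_of_pow hP h1 h4)

end Split

end CfsgLib.Bender.Full.PermM
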