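import Cfsg.Agent.Lib.Bender.Full.PermM.Twins

/-!
# The permutation character has only two constituents

Inverse characters share their constituent (Burnside), so do characters with the same stabilizer
(norm two) and characters with abelian stabilizers (a norm count).
-/

set_option autoImplicit false
set_option linter.unusedSectionVars false

namespace CfsgLib.Bender.Full.PermM

open Cfsg CfsgLib.Char CfsgLib.Bender.End Subgroup
open scoped ComplexConjugate

attribute [local instance 1100] Fintype.ofFinite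

universe u v

variable {N : Type u} [Group N] [Finite N] {X : Type v} [MulAction N X] [Finite X] {L : Subgroup N}

/-- A generalized character meets at most as many irreducible characters as its norm. -/
theorem card_le_norm {f : N → ℂ} (hf : IsGeneralizedCharacter N f) {n : ℕ}
    (hn : classInner f f = n) (s : Finset (IrrCharacter N))
    (hs : ∀ χ ∈ s, classInner f (χ : N → ℂ) ≠ 0) : s.card ≤ n := by
  obtain ⟨m, hm, -, hn'⟩ := generalized_expand hf
  have h : ∑ χ, m χ ^ 2 = (n : ℤ) := by
    rw [hn] at hn'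
    exact_mod_cast hn'.symm
  have h1 : (s.card : ℤ) ≤ n := by
    rw [← h]
    calc (s.card : ℤ) = ∑ χ ∈ s, 1 := by simp
      _ ≤ ∑ χ ∈ s, m χ ^ 2 := Finset.sum_le_sum fun χ hχ => by
          have h0 : m χ ≠ 0 := fun e => hs χ hχ (by rw [hm, e, Int.cast_zero])
          have : (0 : ℤ) < m χ ^ 2 := by positivity
          omega
      _ ≤ ∑ χ, m χ ^ 2 := Finset.sum_le_sum_of_subset_of_nonneg (Finset.subset_univ _)
          fun χ _ _ => sq_nonneg _
  exact_mod_cast h1

namespace Data

variable {S : Split L} {x0 : X} (D : Data S x0)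
include D

theorem card_orbitLin (lam : S.cp.ker →* ℂˣ) :
    (orbitLin lam).card = ((S.St lam).comap S.cp).index := by
  classical
  have hcl : IsClassFunction S.cp.ker fun a => S.psi lam (S.St lam) 1 (a : L) :=
    isClassFunction_of_isCharacter
      (isCharacter_comp (isCharacter_of_isIrr (S.psi_irr rfl 1)) S.cp.ker.subtype)
  have h := congrFun (classFun_expand hcl) 1
  simp only [Subgroup.coe_one, S.psi_one (lam := lam) rfl, Finset.sum_apply, Pi.smul_apply,
    smul_eq_mul, degree_one_of_comm S.comm, mul_one] at h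
  have e : ((orbitLin lam).card : ℂ) = (((S.St lam).comap S.cp).index : ℂ) := by
    rw [h, show orbitLin lam = Finset.univ.filter (fun mu => mu ∈ orbitLin lam) by ext; simp,
      ← Finset.sum_boole]
    refine Fintype.sum_equiv
      (linearCharEquiv.trans (Equiv.subtypeUnivEquiv (degree_one_of_comm S.comm))) _ _ fun mu => ?_
    exact (S.psi_res (lam := lam) rfl 1 mu).symm
  exact_mod_cast e

theorem card_L : Nat.card S.cp.ker * Nat.card S.cp.range = Nat.card L := by
  rw [← Subgroup.index_ker, Subgroup.card_mul_index]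

theorem F_inv_ne {lam : S.cp.ker →* ℂˣ} (h : D.F lam⁻¹ ≠ D.F lam) : lam ≠ 1 := fun e =>
  h (by rw [show lam⁻¹ = lam from MonoidHom.ext fun a => by simp [e]])

/-- A linear character and its inverse lie in the same constituent. -/
theorem F_inv_eq (lam : S.cp.ker →* ℂˣ) : D.F lam⁻¹ = D.F lam := by
  classical
  by_contra hne
  have hl1 := D.F_inv_ne hne
  have hfib : ∀ mu, D.F lam = D.F mu → mu ∈ orbitLin lam := by
    intro mu he
    by_contra hm
    have he' : D.F lam⁻¹ = D.F mu⁻¹ := Subtype.ext (by rw [D.F_inv, D.F_inv, he])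
    have e1 := D.delta_one (lam := lam) (mu := lam⁻¹) rfl (S.St_inv lam) (Ne.symm hne)
    have e2 := D.delta_one (lam := mu) (mu := mu⁻¹) rfl (S.St_inv mu)
      (fun e => hne ((he'.trans e.symm).trans he.symm))
    rw [← he, ← he'] at e2
    have h := D.inner_delta (f := D.delta lam lam⁻¹ (S.St lam) 1) (lam := mu) (mu := mu⁻¹) rfl
      (S.St_inv mu) 1
    rw [e1, e2, delta, delta, classInner_sub_left, classInner_sub_right, classInner_sub_right,
      classInner_sub_left, classInner_sub_right, classInner_sub_right, classInner_irr_self,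
      classInner_irr_self, classInner_irr_ne (Ne.symm hne), classInner_irr_ne hne,
      S.psi_ne rfl rfl hm, S.psi_ne rfl (S.St_inv mu) (fun h' => hne (he'.trans (D.F_orbit h').symm)),
      S.psi_ne (S.St_inv lam) rfl (fun h' => hne ((D.F_orbit h').trans he.symm)),
      S.psi_ne (S.St_inv lam) (S.St_inv mu) (S.not_mem_orbitLin_inv hm)] at h
    norm_num at h
  have hfil : (Finset.univ.filter fun mu => D.F lam = D.F mu) = orbitLin lam := by
    ext mu
    simp only [Finset.mem_filter, Finset.mem_univ, true_and]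
    exact ⟨hfib mu, fun h => D.F_orbit h⟩
  have hd := D.degree (D.F_cons lam)
  rw [hfil, D.card_orbitLin] at hd
  have hdvd : ((S.St lam).comap S.cp).index ∣ Nat.card S.cp.range := by
    rw [Subgroup.index_comap]
    exact Subgroup.relIndex_dvd_card _ _
  have htriv := D.burn (D.F lam) _ hd
    (D.odd.of_dvd_nat (hdvd.trans ⟨Nat.card S.cp.ker, by rw [← D.card_L, mul_comm]⟩))
    (Nat.Coprime.coprime_dvd_left hdvd S.cop.symm)
  apply hne
  apply Subtype.ext
  rw [D.F_inv, htriv]
  funext g
  exact map_one _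

theorem F_ne_F_one {lam : S.cp.ker →* ℂˣ} (h : lam ≠ 1) : D.F lam ≠ D.F 1 := by
  classical
  intro e
  have hd := D.degree (D.F_cons 1)
  rw [D.F_one] at hd
  have h2 : 1 < (Finset.univ.filter fun mu => D.F 1 = D.F mu).card :=
    Finset.one_lt_card.2 ⟨lam, by simp [e], 1, by simp, h⟩
  have h3 : ((Finset.univ.filter fun mu => D.F 1 = D.F mu).card : ℂ) = 1 := hd.symm
  have : (Finset.univ.filter fun mu => D.F 1 = D.F mu).card = 1 := by exact_mod_cast h3
  omega

/-- Linear characters with the same stabilizer lie in the same constituent. -/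
theorem F_eq_of_St_eq {lam mu : S.cp.ker →* ℂˣ} (hl : lam ≠ 1) (h : S.St mu = S.St lam) :
    D.F lam = D.F mu := by
  classical
  by_contra hne
  have e1 := D.delta_one (lam := lam) (mu := mu) rfl h hne
  have e2 := D.delta_one (lam := lam⁻¹) (mu := mu) (S.St_inv lam) h (by rwa [D.F_inv_eq])
  rw [D.F_inv_eq] at e2
  have hm : mu ∉ orbitLin lam := fun h' => hne (D.F_orbit h')
  have hm' : lam⁻¹ ∉ orbitLin mu := fun h' => hne (by rw [← D.F_inv_eq lam, D.F_orbit h'])
  have h2 := D.inner_delta (f := D.delta lam mu (S.St lam) 1) (lam := lam⁻¹) (mu := mu)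
    (S.St_inv lam) h 1
  rw [e1, e2, delta, delta, classInner_sub_left, classInner_sub_right, classInner_sub_right,
    classInner_sub_left, classInner_sub_right, classInner_sub_right, classInner_irr_self,
    classInner_irr_self, classInner_irr_ne hne, classInner_irr_ne (Ne.symm hne),
    S.psi_ne rfl (S.St_inv lam) (S.inv_notMem_orbitLin D.odd hl), S.psi_ne rfl h hm,
    S.psi_ne h (S.St_inv lam) hm', S.psi_inner h, if_pos rfl] at h2
  norm_num at h2

theorem indM_sub_supported (lam mu : S.cp.ker →* ℂˣ) : Supported L (S.indM lam - S.indM mu) :=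
  D.supported fun x hx => by
    rw [Pi.sub_apply]
    by_cases hk : x ∈ S.cp.ker
    · have h1 : x = 1 := orderOf_eq_one_iff.1 (Nat.eq_one_of_dvd_coprimes S.cop
        (Subgroup.orderOf_dvd_natCard _ hk) (orderOf_dvd_of_pow_eq_one hx))
      subst h1
      simp [Split.indM, indFun_one]
    · rw [Split.indM, Split.indM, indFun_normal_not_mem _ _ hk, indFun_normal_not_mem _ _ hk, sub_self]

theorem indM_inner_psi (lam : S.cp.ker →* ℂˣ) {nu : S.cp.ker →* ℂˣ} {P : Subgroup L}
    (hP : S.St nu = P) (β : P →* ℂˣ) [Decidable (lam ∈ orbitLin nu)] :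
    classInner (S.indM lam) (S.psi nu P β) = if lam ∈ orbitLin nu then 1 else 0 := by
  rw [Split.indM, classInner_indFun _ _ _ (isClassFunction_of_isCharacter
    (isCharacter_of_isIrr (S.psi_irr hP β))), ← classInner_conj, S.psi_res hP β lam]
  split_ifs <;> simp

open Classical in
theorem indM_inner_cons (lam : S.cp.ker →* ℂˣ) {χ : IrrCharacter N} (hc : D.Cons χ) :
    classInner (S.indM lam) (fun x : L => (χ : N → ℂ) x) = if χ = D.F lam then 1 else 0 := by
  have hcl : IsClassFunction L (fun x : L => (χ : N → ℂ) x) := isClassFunction_of_isCharacter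
    (isCharacter_comp (isCharacter_irr χ) L.subtype)
  rw [Split.indM, classInner_indFun _ _ _ hcl, ← classInner_conj]
  show conj (classInner (fun a : S.cp.ker => (χ : N → ℂ) ((a : L) : N)) fun a => (lam a : ℂ)) = _
  rw [D.F_spec hc lam]
  split_ifs <;> simp

/-- The families attached to a linear character. -/
theorem exists_family {lam nu : S.cp.ker →* ℂˣ} (hl : lam ≠ 1) (hne : D.F lam ≠ D.F nu) :
    ∃ μ ν : (S.St lam →* ℂˣ) → IrrCharacter N, ∀ β, μ β ≠ ν β ∧
      indFun L (D.delta lam lam⁻¹ (S.St lam) β) = (μ β : N → ℂ) - (ν β : N → ℂ) ∧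
      classInner (S.indM lam - S.indM nu) (D.delta lam lam⁻¹ (S.St lam) β) = 1 := by
  classical
  choose μ ν hμν he using fun β => D.delta_split (lam := lam) (mu := lam⁻¹) rfl (S.St_inv lam)
    (S.inv_notMem_orbitLin D.odd hl) β
  refine ⟨μ, ν, fun β => ⟨hμν β, he β, ?_⟩⟩
  rw [delta, classInner_sub_left, classInner_sub_right, classInner_sub_right,
    D.indM_inner_psi lam rfl β, D.indM_inner_psi lam (S.St_inv lam) β,
    D.indM_inner_psi nu rfl β, D.indM_inner_psi nu (S.St_inv lam) β,
    if_pos (S.mem_orbitLin_self lam),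
    if_neg (fun h => S.inv_notMem_orbitLin D.odd hl (S.orbitLin_symm h)),
    if_neg (fun h => hne (D.F_orbit h)),
    if_neg (fun h => hne ((D.F_inv_eq lam).symm.trans (D.F_orbit h)))]
  norm_num

/-- Linear characters with abelian stabilizers lie in the same constituent. -/
theorem F_eq_of_comm {lam mu : S.cp.ker →* ℂˣ} (hl : lam ≠ 1) (hm : mu ≠ 1)
    (hlc : ∀ a b : S.St lam, a * b = b * a) (hmc : ∀ a b : S.St mu, a * b = b * a) :
    D.F lam = D.F mu := by
  classical
  by_contra hne
  obtain ⟨μ₁, ν₁, h₁⟩ := D.exists_family hl hne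
  obtain ⟨μ₂, ν₂, h₂⟩ := D.exists_family hm (Ne.symm hne)
  set Δ : L → ℂ := S.indM lam - S.indM mu with hΔ
  set f := indFun L Δ with hf
  have hΔg : IsGeneralizedCharacter L Δ :=
    ⟨_, _, isCharacter_indFun _ (isCharacter_of_isIrr (isIrrCharacter_lin lam)),
      isCharacter_indFun _ (isCharacter_of_isIrr (isIrrCharacter_lin mu)), rfl⟩
  have hnm : mu ∉ orbitLin lam := fun h => hne (D.F_orbit h)
  have hnorm : classInner f f = ((Nat.card (S.St lam) + Nat.card (S.St mu) : ℕ) : ℂ) := by
    rw [hf, classInner_indFun_supported Δ (isClassFunction_of_isGeneralized hΔg)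
      (D.indM_sub_supported lam mu), hΔ, classInner_sub_left, classInner_sub_right,
      classInner_sub_right, S.indM_inner, S.indM_inner, S.indM_inner, S.indM_inner,
      if_pos (S.mem_orbitLin_self lam), if_pos (S.mem_orbitLin_self mu), if_neg hnm,
      if_neg (fun h => hnm (S.orbitLin_symm h))]
    push_cast
    ring
  -- the family indexed by both groups of linear characters
  let δ : (S.St lam →* ℂˣ) ⊕ (S.St mu →* ℂˣ) → L → ℂ := Sum.elim
    (fun β => D.delta lam lam⁻¹ (S.St lam) β) (fun β => D.delta mu mu⁻¹ (S.St mu) β)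
  let p : (S.St lam →* ℂˣ) ⊕ (S.St mu →* ℂˣ) → IrrCharacter N := Sum.elim μ₁ μ₂
  let q : (S.St lam →* ℂˣ) ⊕ (S.St mu →* ℂˣ) → IrrCharacter N := Sum.elim ν₁ ν₂
  have hpq : ∀ i, p i ≠ q i ∧ indFun L (δ i) = (p i : N → ℂ) - (q i : N → ℂ) ∧
      classInner Δ (δ i) ≠ 0 ∧ IsGeneralizedCharacter L (δ i) ∧ Supported L (δ i) := by
    rintro (β | β)
    · exact ⟨(h₁ β).1, (h₁ β).2.1, by
        show classInner Δ (D.delta lam lam⁻¹ (S.St lam) β) ≠ 0
        rw [(h₁ β).2.2]; exact one_ne_zero,
        D.delta_gen rfl (S.St_inv lam) β, D.delta_supported rfl (S.St_inv lam) β⟩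
    · refine ⟨(h₂ β).1, (h₂ β).2.1, ?_, D.delta_gen rfl (S.St_inv mu) β,
        D.delta_supported rfl (S.St_inv mu) β⟩
      show classInner Δ (D.delta mu mu⁻¹ (S.St mu) β) ≠ 0
      rw [hΔ, ← neg_sub (S.indM mu), classInner_neg_left, (h₂ β).2.2]
      norm_num
  have hiso : ∀ (g : L → ℂ) i, classInner (indFun L g) (indFun L (δ i)) = classInner g (δ i) :=
    fun g i => classInner_indFun_supported g (isClassFunction_of_isGeneralized (hpq i).2.2.2.1)
      (hpq i).2.2.2.2
  have hm1 : mu⁻¹ ∉ orbitLin lam := fun h => hne ((D.F_orbit h).trans (D.F_inv_eq mu))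
  have hm2 : mu ∉ orbitLin lam⁻¹ := fun h => hne (by rw [← D.F_inv_eq lam, D.F_orbit h])
  have horth : ∀ i j, i ≠ j → classInner (δ i) (δ j) = 0 := by
    have hsym : ∀ {a b : L → ℂ}, classInner a b = 0 → classInner b a = 0 := fun h => by
      rw [← classInner_conj, h, map_zero]
    have hcross : ∀ β γ, classInner (D.delta lam lam⁻¹ (S.St lam) β)
        (D.delta mu mu⁻¹ (S.St mu) γ) = 0 := by
      intro β γ
      rw [delta, delta, classInner_sub_left, classInner_sub_right, classInner_sub_right,
        S.psi_ne rfl rfl hnm, S.psi_ne rfl (S.St_inv mu) hm1, S.psi_ne (S.St_inv lam) rfl hm2,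
        S.psi_ne (S.St_inv lam) (S.St_inv mu) (S.not_mem_orbitLin_inv hnm)]
      norm_num
    have hsame : ∀ {nu : S.cp.ker →* ℂˣ}, nu ≠ 1 → ∀ β γ : S.St nu →* ℂˣ, β ≠ γ →
        classInner (D.delta nu nu⁻¹ (S.St nu) β) (D.delta nu nu⁻¹ (S.St nu) γ) = 0 := by
      intro nu hnu β γ hbc
      rw [delta, delta, classInner_sub_left, classInner_sub_right, classInner_sub_right,
        S.psi_inner rfl, S.psi_inner (S.St_inv nu),
        S.psi_ne rfl (S.St_inv nu) (S.inv_notMem_orbitLin D.odd hnu),
        S.psi_ne (S.St_inv nu) rfl (fun h => S.inv_notMem_orbitLin D.odd hnu (S.orbitLin_symm h)),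
        if_neg hbc]
      norm_num
    rintro (β | β) (γ | γ) hij
    · exact hsame hl β γ fun e => hij (e ▸ rfl)
    · exact hcross β γ
    · exact hsym (hcross γ β)
    · exact hsame hm β γ fun e => hij (e ▸ rfl)
  have hg : ∀ i, ∃ χ : IrrCharacter N, (χ = p i ∨ χ = q i) ∧ classInner f (χ : N → ℂ) ≠ 0 := by
    intro i
    by_contra h
    push Not at h
    apply (hpq i).2.2.1
    rw [← hiso Δ i, (hpq i).2.1, classInner_sub_right, h _ (Or.inl rfl), h _ (Or.inr rfl), sub_zero]
  choose g hg hg0 using hg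
  have hdis : ∀ i j, i ≠ j → p i ≠ p j ∧ p i ≠ q j ∧ q i ≠ p j ∧ q i ≠ q j := fun i j hij => by
    refine disjoint_of_orth ?_ (hpq i).1 (hpq j).1
    rw [← (hpq i).2.1, ← (hpq j).2.1, hiso (δ i) j, horth i j hij]
  have hginj : Function.Injective g := by
    intro i j e
    by_contra hij
    obtain ⟨h1, h2, h3, h4⟩ := hdis i j hij
    rcases hg i with a | a <;> rcases hg j with b | b <;> rw [a, b] at e <;>
      first | exact h1 e | exact h2 e | exact h3 e | exact h4 e
  have hcons : ∀ {χ : IrrCharacter N}, D.Cons χ → ∀ i, p i ≠ χ ∧ q i ≠ χ := by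
    intro χ hc i
    have hz : ∀ {nu : S.cp.ker →* ℂˣ} (β : S.St nu →* ℂˣ),
        classInner (D.delta nu nu⁻¹ (S.St nu) β) (fun x : L => (χ : N → ℂ) x) = 0 := fun {nu} β => by
      rw [delta, classInner_sub_left, D.psi_cons rfl β hc, D.psi_cons (S.St_inv nu) β hc,
        D.F_inv_eq nu, sub_self]
    have h0 : classInner ((p i : N → ℂ) - (q i : N → ℂ)) (χ : N → ℂ) = 0 := by
      rw [← (hpq i).2.1, D.indFun_inner_res]
      rcases i with β | β
      · exact hz β
      · exact hz β
    rw [classInner_sub_left, classInner_irr, classInner_irr] at h0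
    refine ⟨fun e => ?_, fun e => ?_⟩
    · rw [if_pos e, if_neg fun e' => (hpq i).1 (e.trans e'.symm)] at h0
      norm_num at h0
    · rw [if_pos e, if_neg fun e' => (hpq i).1 (e'.trans e.symm)] at h0
      norm_num at h0
  have hfl : ∀ {nu : S.cp.ker →* ℂˣ}, nu = lam ∨ nu = mu →
      classInner f (D.F nu : N → ℂ) ≠ 0 := by
    intro nu hnu
    rw [hf, D.indFun_inner_res, hΔ, classInner_sub_left, D.indM_inner_cons lam (D.F_cons nu),
      D.indM_inner_cons mu (D.F_cons nu)]
    rcases hnu with rfl | rfl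
    · rw [if_pos rfl, if_neg hne]; norm_num
    · rw [if_pos rfl, if_neg (Ne.symm hne)]; norm_num
  have h := card_le_norm (isGeneralizedCharacter_indFun L hΔg) hnorm
    (insert (D.F lam) (insert (D.F mu) (Finset.univ.image g))) (by
      intro χ hχ
      simp only [Finset.mem_insert, Finset.mem_image, Finset.mem_univ, true_and] at hχ
      rcases hχ with rfl | rfl | ⟨i, rfl⟩
      · exact hfl (Or.inl rfl)
      · exact hfl (Or.inr rfl)
      · exact hg0 i)
  have hnot : ∀ {χ : IrrCharacter N}, D.Cons χ → χ ∉ Finset.univ.image g := by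
    intro χ hc hχ
    obtain ⟨i, -, rfl⟩ := Finset.mem_image.1 hχ
    rcases hg i with a | a
    · exact (hcons hc i).1 a.symm
    · exact (hcons hc i).2 a.symm
  rw [Finset.card_insert_of_notMem (by
      rw [Finset.mem_insert]; exact fun h => h.elim hne (hnot (D.F_cons lam))),
    Finset.card_insert_of_notMem (hnot (D.F_cons mu)), Finset.card_image_of_injective _ hginj,
    Finset.card_univ, ← Nat.card_eq_fintype_card, Nat.card_sum, Split.card_hom_of_comm hlc,
    Split.card_hom_of_comm hmc] at h
  omega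

/-- With abelian stabilizers, or one fixed stabilizer, there are two orbits on pairs. -/
theorem inner_self_eq_two (hker : S.cp.ker ≠ ⊥)
    (faith : ∀ χ : IrrCharacter N, (χ : N → ℂ) ≠ (fun _ => 1) →
      ∀ g : N, (χ : N → ℂ) g = (χ : N → ℂ) 1 → g = 1)
    (C0 : Subgroup L) (hst : ∀ lam : S.cp.ker →* ℂˣ, lam ≠ 1 →
      S.St lam ≤ C0 ∧ ((∀ a b : S.St lam, a * b = b * a) ∨ S.St lam = C0)) :
    classInner (permChar N X) (permChar N X) = 2 := by
  classical
  have hmixed : ∀ lam mu : S.cp.ker →* ℂˣ, lam ≠ 1 → mu ≠ 1 →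
      (∀ a b : S.St mu, a * b = b * a) → D.F lam = D.F mu := by
    intro lam mu hl hm hmc
    by_contra hne
    set χ := D.F lam with hχ
    set fib := Finset.univ.filter fun nu => χ = D.F nu with hfib
    have hchi1 : (χ : N → ℂ) ≠ fun _ => 1 := fun e =>
      D.F_ne_F_one hl (Subtype.ext (e.trans D.F_one.symm))
    have hnab : ∀ nu ∈ fib, S.St nu = C0 ∧ ¬ ∀ a b : S.St nu, a * b = b * a := by
      intro nu hnu
      have he : χ = D.F nu := (Finset.mem_filter.1 hnu).2
      have hn1 : nu ≠ 1 := fun e => D.F_ne_F_one hl (he.trans (by rw [e]))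
      have hna : ¬ ∀ a b : S.St nu, a * b = b * a := fun hc =>
        hne (he.trans (D.F_eq_of_comm hn1 hm hc hmc))
      exact ⟨(hst nu hn1).2.resolve_left hna, hna⟩
    have hlfib : lam ∈ fib := Finset.mem_filter.2 ⟨Finset.mem_univ _, hχ⟩
    obtain ⟨hl0, hlna⟩ := hnab lam hlfib
    set K := C0.comap S.cp with hK
    let hat : ↥fib → IrrCharacter K := fun nu =>
      ⟨_, isIrrCharacter_lin (S.lHom (S.le_of_St (hnab nu.1 nu.2).1) (1 : C0 →* ℂˣ))⟩
    have hinj : Function.Injective hat := fun a b e => Subtype.ext (MonoidHom.ext fun x => by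
      have hx : (x : L) ∈ K := S.ker_le_comap C0 x.2
      have h : ((hat a : K → ℂ) ⟨x, hx⟩) = (hat b : K → ℂ) ⟨x, hx⟩ := by rw [e]
      simp only [hat, S.lHom_ker _ 1 ⟨(x : L), hx⟩ x.2, Subtype.coe_eta] at h
      exact Units.ext h)
    choose n hn using fun κ : IrrCharacter K =>
      classInner_isCharacter (isCharacter_comp
        (isCharacter_comp (isCharacter_irr χ) L.subtype) K.subtype) (isCharacter_irr κ)
    have hn' : ∀ κ : IrrCharacter K,
        classInner (fun x : K => (χ : N → ℂ) ((x : L) : N)) (κ : K → ℂ) = n κ := hn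
    have hhat : ∀ a, n (hat a) = 1 := by
      intro a
      have h := D.psi_cons (hnab a.1 a.2).1 (1 : C0 →* ℂˣ) (D.F_cons lam)
      have hcl : IsClassFunction L (fun x : L => (χ : N → ℂ) x) := isClassFunction_of_isCharacter
        (isCharacter_comp (isCharacter_irr χ) L.subtype)
      rw [if_pos ⟨rfl, (Finset.mem_filter.1 a.2).2⟩, Split.psi, classInner_indFun _ _ _ hcl,
        S.lFun_eq (S.le_of_St (hnab a.1 a.2).1)] at h
      have h2 := hn' (hat a)
      rw [← classInner_conj] at h2
      change conj (classInner _ _) = _ at h2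
      rw [h, map_one] at h2
      exact_mod_cast h2.symm
    have hexp : ∀ y : K, (χ : N → ℂ) ((y : L) : N) = ∑ κ : IrrCharacter K, (n κ : ℂ) * (κ : K → ℂ) y :=
      fun y => by
        have h := congrFun (classFun_expand (f := fun x : K => (χ : N → ℂ) ((x : L) : N))
          (isClassFunction_of_isCharacter (isCharacter_comp
            (isCharacter_comp (isCharacter_irr χ) L.subtype) K.subtype))) y
        simpa [hn'] using h
    choose d hd0 hd using fun κ : IrrCharacter K => isIrrCharacter_degree κ.2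
    have hsum : ∑ κ, n κ * d κ = fib.card := by
      have h := hexp 1
      simp only [Subgroup.coe_one, hd] at h
      have h2 := h.symm.trans (D.degree (D.F_cons lam))
      exact_mod_cast h2
    have himg : ∑ κ ∈ Finset.univ.image hat, n κ * d κ = fib.card := by
      rw [Finset.sum_image fun a _ b _ e => hinj e]
      refine (Finset.sum_congr rfl fun a _ => ?_).trans (by simp : ∑ _a : ↥fib, 1 = fib.card)
      rw [hhat, one_mul]
      have : ((hat a : K → ℂ) 1) = 1 := by simp [hat]
      exact_mod_cast (hd (hat a)).symm.trans this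
    have hout : ∀ κ ∉ Finset.univ.image hat, n κ = 0 := by
      intro κ hκ
      have h := Finset.sum_le_sum_of_subset (f := fun κ => n κ * d κ)
        (Finset.subset_univ (insert κ (Finset.univ.image hat)))
      rw [Finset.sum_insert hκ, himg, hsum] at h
      rcases mul_eq_zero.1 (show n κ * d κ = 0 by omega) with h0 | h0
      · exact h0
      · exact absurd h0 (hd0 κ).ne'
    have hC0 : C0 = ⊥ := by
      rw [eq_bot_iff]
      intro γ hγ
      have hr : γ ∈ S.cp.range := S.range_of_St hl0 hγ
      have hγK : γ ∈ K := by rw [hK, Subgroup.mem_comap, S.fixed hr]; exact hγ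
      have h := hexp ⟨γ, hγK⟩
      rw [← Finset.sum_subset (Finset.subset_univ (Finset.univ.image hat))
        (fun κ _ hκ => by rw [hout κ hκ, Nat.cast_zero, zero_mul]),
        Finset.sum_image fun a _ b _ e => hinj e] at h
      have hone : ∀ a : ↥fib, (n (hat a) : ℂ) * (hat a : K → ℂ) ⟨γ, hγK⟩ = 1 := fun a => by
        rw [hhat, Nat.cast_one, one_mul]
        simp [hat, Split.lHom, S.mp_of_range hr]
      rw [Finset.sum_congr rfl fun a _ => hone a, Finset.sum_const, Finset.card_univ,
        Fintype.card_coe, nsmul_one, ← D.degree (D.F_cons lam)] at h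
      have hg := faith χ hchi1 _ h
      rw [Subgroup.mem_bot]
      exact Subtype.ext hg
    refine hlna fun a b => ?_
    have h1 : ∀ c : S.St lam, c = 1 := fun c => Subtype.ext (Subgroup.mem_bot.1 (hC0 ▸ hl0 ▸ c.2))
    rw [h1 a, h1 b]
  have hall : ∀ lam mu : S.cp.ker →* ℂˣ, lam ≠ 1 → mu ≠ 1 → D.F lam = D.F mu := by
    intro lam mu hl hm
    by_cases hlc : ∀ a b : S.St lam, a * b = b * a
    · exact (hmixed mu lam hm hl hlc).symm
    by_cases hmc : ∀ a b : S.St mu, a * b = b * a
    · exact hmixed lam mu hl hm hmc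
    exact D.F_eq_of_St_eq hl
      (((hst mu hm).2.resolve_left hmc).trans ((hst lam hl).2.resolve_left hlc).symm)
  obtain ⟨lam0, hlam0⟩ : ∃ lam : S.cp.ker →* ℂˣ, lam ≠ 1 := by
    letI : CommGroup S.cp.ker := { (inferInstance : Group S.cp.ker) with mul_comm := S.comm }
    haveI : Nontrivial (S.cp.ker →* ℂˣ) := Finite.one_lt_card_iff_nontrivial.mp (by
      rw [CommGroup.card_monoidHom_of_hasEnoughRootsOfUnity S.cp.ker ℂ]
      exact (Subgroup.one_lt_card_iff_ne_bot _).2 hker)
    exact exists_ne 1
  have hcons : ∀ χ : IrrCharacter N, D.Cons χ ↔ χ ∈ ({D.F 1, D.F lam0} : Finset _) := by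
    intro χ
    rw [Finset.mem_insert, Finset.mem_singleton]
    constructor
    · intro hc
      obtain ⟨lam, rfl⟩ := D.exists_F_eq hc
      rcases eq_or_ne lam 1 with rfl | hl
      · exact Or.inl rfl
      · exact Or.inr (hall lam lam0 hl hlam0)
    · rintro (rfl | rfl) <;> exact D.F_cons _
  rw [classInner_expand (isClassFunction_of_isCharacter (isCharacter_permChar X)),
    ← Finset.sum_subset (Finset.subset_univ ({D.F 1, D.F lam0} : Finset _)) fun χ _ hχ => by
      rw [not_not.1 fun h => hχ ((hcons χ).1 h), zero_mul],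
    Finset.sum_congr rfl fun χ hχ => by rw [D.cons_inner ((hcons χ).2 hχ), map_one, one_mul],
    Finset.sum_const, Finset.card_pair (Ne.symm (D.F_ne_F_one hlam0))]
  norm_num

end Data

end CfsgLib.Bender.Full.PermM
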