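import Cfsg.Agent.Lib.Bender.End.Orbit
import Cfsg.Agent.Lib.Char.Linear

/-!
# Characters of a split group with abelian kernel of coprime order

`Split L`: an idempotent endomorphism `cp` of `L` with abelian kernel `M` of order prime to that of
its image `C`. `psi S lam P β` is induced from `P.comap cp`, where it is `lam` on `M` and `β` on `P`.
-/

set_option autoImplicit false
set_option linter.unusedSectionVars false

namespace CfsgLib.Bender.Full.PermM

open Cfsg CfsgLib.Char CfsgLib.Bender.End Subgroup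
open scoped ComplexConjugate

attribute [local instance 1100] Fintype.ofFinite

universe u

/-- An idempotent endomorphism with abelian kernel of order prime to the order of its image. -/
structure Split (L : Type u) [Group L] where
  cp : L →* L
  idem : ∀ x, cp (cp x) = cp x
  comm : ∀ a b : cp.ker, a * b = b * a
  cop : (Nat.card cp.ker).Coprime (Nat.card cp.range)

namespace Split

variable {L : Type u} [Group L] (S : Split L)

theorem fixed {y : L} (hy : y ∈ S.cp.range) : S.cp y = y := by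
  obtain ⟨x, rfl⟩ := hy
  exact S.idem x

/-- The component in the kernel. -/
def mp (x : L) : S.cp.ker :=
  ⟨x * (S.cp x)⁻¹, MonoidHom.mem_ker.2 (by rw [map_mul, map_inv, S.idem, mul_inv_cancel])⟩

theorem coe_mp (x : L) : (S.mp x : L) = x * (S.cp x)⁻¹ := rfl

theorem mp_mul_cp (x : L) : (S.mp x : L) * S.cp x = x := by
  rw [S.coe_mp, inv_mul_cancel_right]

theorem mp_of_ker (a : S.cp.ker) : S.mp (a : L) = a := Subtype.ext (by
  rw [S.coe_mp, MonoidHom.mem_ker.1 a.2, inv_one, mul_one])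

theorem mp_of_range {y : L} (hy : y ∈ S.cp.range) : S.mp y = 1 := Subtype.ext (by
  rw [S.coe_mp, S.fixed hy, mul_inv_cancel]; rfl)

theorem lam_mp_mul (lam : S.cp.ker →* ℂˣ) {x y : L} (hx : S.cp x ∈ linStab lam) :
    lam (S.mp (x * y)) = lam (S.mp x) * lam (S.mp y) := by
  have hc : S.cp x * (S.mp y : L) * (S.cp x)⁻¹ ∈ S.cp.ker :=
    (MonoidHom.normal_ker S.cp).conj_mem _ (S.mp y).2 _
  have e : S.mp (x * y) = S.mp x * ⟨_, hc⟩ := Subtype.ext (by
    simp only [S.coe_mp, Subgroup.coe_mul, map_mul]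
    group)
  rw [e, map_mul, ← conjLin_apply lam (S.cp x) (S.mp y) hc,
    show conjLin lam (S.cp x) = lam from hx]

/-- The stabilizer of a linear character in the complement. -/
noncomputable def St (lam : S.cp.ker →* ℂˣ) : Subgroup L := linStab lam ⊓ S.cp.range

theorem cp_mem_linStab {lam : S.cp.ker →* ℂˣ} {x : L} :
    S.cp x ∈ linStab lam ↔ x ∈ linStab lam := by
  have h : (S.mp x : L) ∈ linStab lam := le_linStab lam (S.mp x).2
  constructor
  · intro hc
    rw [← S.mp_mul_cp x]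
    exact mul_mem h hc
  · intro hx
    rw [show S.cp x = (S.mp x : L)⁻¹ * x by rw [eq_inv_mul_iff_mul_eq, S.mp_mul_cp]]
    exact mul_mem (inv_mem h) hx

theorem comap_St (lam : S.cp.ker →* ℂˣ) : (S.St lam).comap S.cp = linStab lam :=
  Subgroup.ext fun x => by
    rw [Subgroup.mem_comap, St, Subgroup.mem_inf, and_iff_left ⟨x, rfl⟩, S.cp_mem_linStab]

theorem ker_le_comap (P : Subgroup L) : S.cp.ker ≤ P.comap S.cp := fun a ha => by
  rw [Subgroup.mem_comap, MonoidHom.mem_ker.1 ha]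
  exact P.one_mem

theorem le_of_St {lam : S.cp.ker →* ℂˣ} {P : Subgroup L} (hP : S.St lam = P) : P ≤ linStab lam :=
  hP ▸ inf_le_left

theorem range_of_St {lam : S.cp.ker →* ℂˣ} {P : Subgroup L} (hP : S.St lam = P) : P ≤ S.cp.range :=
  hP ▸ inf_le_right

theorem linStab_of_St {lam : S.cp.ker →* ℂˣ} {P : Subgroup L} (hP : S.St lam = P) :
    linStab lam = P.comap S.cp := hP ▸ (S.comap_St lam).symm

section

variable [Finite L]

theorem card_comap {P : Subgroup L} (hP : P ≤ S.cp.range) :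
    Nat.card (P.comap S.cp) = Nat.card S.cp.ker * Nat.card P := by
  rw [← Nat.card_prod]
  exact Nat.card_congr
    { toFun := fun x => (S.mp (x : L), ⟨S.cp x, x.2⟩)
      invFun := fun q => ⟨(q.1 : L) * q.2, by
        rw [Subgroup.mem_comap, map_mul, MonoidHom.mem_ker.1 q.1.2, one_mul, S.fixed (hP q.2.2)]
        exact q.2.2⟩
      left_inv := fun x => Subtype.ext (S.mp_mul_cp x)
      right_inv := fun q => by
        have e : S.cp ((q.1 : L) * q.2) = q.2 := by
          rw [map_mul, MonoidHom.mem_ker.1 q.1.2, one_mul, S.fixed (hP q.2.2)]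
        exact Prod.ext (Subtype.ext (by simp only [S.coe_mp]; rw [e, mul_inv_cancel_right]))
          (Subtype.ext e) }

theorem pow_mem_ker (x : L) : x ^ Nat.card S.cp.range ∈ S.cp.ker := by
  rw [MonoidHom.mem_ker, map_pow]
  have h : (⟨S.cp x, ⟨x, rfl⟩⟩ : S.cp.range) ^ Nat.card S.cp.range = 1 := pow_card_eq_one'
  simpa using congrArg Subtype.val h

/-- The linear character `lam · β`. -/
noncomputable def lHom {lam : S.cp.ker →* ℂˣ} {P : Subgroup L} (hP : P ≤ linStab lam)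
    (β : P →* ℂˣ) : P.comap S.cp →* ℂˣ :=
  MonoidHom.mk' (fun x => lam (S.mp (x : L)) * β ⟨S.cp x, x.2⟩) fun x y => by
    have e : (⟨S.cp ((x * y : P.comap S.cp) : L), (x * y).2⟩ : P) = ⟨S.cp x, x.2⟩ * ⟨S.cp y, y.2⟩ :=
      Subtype.ext (map_mul _ _ _)
    rw [e, map_mul, show S.mp ((x * y : P.comap S.cp) : L) = S.mp ((x : L) * y) from rfl,
      S.lam_mp_mul lam (hP x.2)]
    exact mul_mul_mul_comm _ _ _ _

/-- `lam · β` as a function. -/
noncomputable def lFun (lam : S.cp.ker →* ℂˣ) (P : Subgroup L) (β : P →* ℂˣ) :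
    P.comap S.cp → ℂ :=
  fun x => ((lam (S.mp (x : L)) * β ⟨S.cp x, x.2⟩ : ℂˣ) : ℂ)

/-- The induced character of `lam · β`. -/
noncomputable def psi (lam : S.cp.ker →* ℂˣ) (P : Subgroup L) (β : P →* ℂˣ) : L → ℂ :=
  indFun (P.comap S.cp) (S.lFun lam P β)

theorem lFun_eq {lam : S.cp.ker →* ℂˣ} {P : Subgroup L} (hP : P ≤ linStab lam) (β : P →* ℂˣ) :
    S.lFun lam P β = fun x => (S.lHom hP β x : ℂ) := rfl

theorem lHom_injective {lam : S.cp.ker →* ℂˣ} {P : Subgroup L} (hP : P ≤ linStab lam)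
    (hr : P ≤ S.cp.range) {β β' : P →* ℂˣ} (h : S.lHom hP β = S.lHom hP β') : β = β' := by
  ext y : 1
  have hy : (y : L) ∈ P.comap S.cp := by
    rw [Subgroup.mem_comap, S.fixed (hr y.2)]; exact y.2
  have e := DFunLike.congr_fun h ⟨y, hy⟩
  simp only [lHom, MonoidHom.mk'_apply, S.mp_of_range (hr y.2), map_one, one_mul] at e
  simpa only [S.fixed (hr y.2)] using e

theorem inner_indFun_lin {lam : S.cp.ker →* ℂˣ} {K : Subgroup L} (hK : linStab lam = K)
    (f g : K →* ℂˣ) (hf : ∀ (a : K) (ha : (a : L) ∈ S.cp.ker), f a = lam ⟨a, ha⟩)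
    (hg : ∀ (a : K) (ha : (a : L) ∈ S.cp.ker), g a = lam ⟨a, ha⟩) :
    classInner (indFun K fun x => (f x : ℂ)) (indFun K fun x => (g x : ℂ)) =
      classInner (fun x : K => (f x : ℂ)) (fun x => (g x : ℂ)) := by
  subst hK
  refine classInner_indFun_over lam (isClassFunction_of_isCharacter
    (isCharacter_of_isIrr (isIrrCharacter_lin g))) (fun a x => ?_) (fun a x => ?_)
  · rw [map_mul, Units.val_mul, hf _ a.2, subLin_apply]
  · rw [map_mul, Units.val_mul, hg _ a.2, subLin_apply]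

theorem lHom_ker {lam : S.cp.ker →* ℂˣ} {P : Subgroup L} (hP : P ≤ linStab lam) (β : P →* ℂˣ)
    (a : P.comap S.cp) (ha : (a : L) ∈ S.cp.ker) : S.lHom hP β a = lam ⟨a, ha⟩ := by
  have e : (⟨S.cp a, a.2⟩ : P) = 1 := Subtype.ext (MonoidHom.mem_ker.1 ha)
  simp [lHom, e, show S.mp (a : L) = ⟨a, ha⟩ from S.mp_of_ker ⟨a, ha⟩]

open Classical in
theorem psi_inner {lam : S.cp.ker →* ℂˣ} {P : Subgroup L} (hP : S.St lam = P)
    (β β' : P →* ℂˣ) :
    classInner (S.psi lam P β) (S.psi lam P β') = if β = β' then 1 else 0 := by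
  have hle := S.le_of_St hP
  rw [psi, psi, S.lFun_eq hle, S.lFun_eq hle, S.inner_indFun_lin (S.linStab_of_St hP) _ _
    (S.lHom_ker hle β) (S.lHom_ker hle β')]
  have h := classInner_irr (G := P.comap S.cp) ⟨_, isIrrCharacter_lin (S.lHom hle β)⟩
    ⟨_, isIrrCharacter_lin (S.lHom hle β')⟩
  dsimp only at h
  refine h.trans ?_
  refine if_congr ⟨fun e => ?_, fun e => by subst e; rfl⟩ rfl rfl
  exact S.lHom_injective hle (S.range_of_St hP) (MonoidHom.ext fun x =>
    Units.ext (congrFun (congrArg Subtype.val e) x))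

theorem psi_irr {lam : S.cp.ker →* ℂˣ} {P : Subgroup L} (hP : S.St lam = P) (β : P →* ℂˣ) :
    IsIrrCharacter L (S.psi lam P β) := by
  refine isIrr_of_isCharacter_norm_one ?_ (by rw [S.psi_inner hP, if_pos rfl])
  rw [psi, S.lFun_eq (S.le_of_St hP)]
  exact isCharacter_indFun _ (isCharacter_of_isIrr (isIrrCharacter_lin _))

theorem psi_one {lam : S.cp.ker →* ℂˣ} {P : Subgroup L} (hP : S.St lam = P) (β : P →* ℂˣ) :
    S.psi lam P β 1 = ((P.comap S.cp).index : ℂ) := by
  rw [psi, indFun_one, S.lFun_eq (S.le_of_St hP)]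
  simp

/-- Two such characters agree on the elements of order prime to that of the kernel. -/
theorem psi_eq_of_pow {lam mu : S.cp.ker →* ℂˣ} {P : Subgroup L} (hl : P ≤ linStab lam)
    (hm : P ≤ linStab mu) (β : P →* ℂˣ) {x : L} (hx : x ^ Nat.card S.cp.range = 1) :
    S.psi lam P β x = S.psi mu P β x := by
  classical
  rw [psi, psi, indFun, indFun]
  refine congrArg _ (Finset.sum_congr rfl fun y _ => ?_)
  by_cases hy : y⁻¹ * x * y ∈ P.comap S.cp
  · have hone : ∀ {ν : S.cp.ker →* ℂˣ}, P ≤ linStab ν → ν (S.mp (y⁻¹ * x * y)) = 1 := by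
      intro ν hν
      have h1 : S.lHom hν 1 ⟨_, hy⟩ = ν (S.mp (y⁻¹ * x * y)) := by simp [lHom]
      have h2 : (y⁻¹ * x * y) ^ Nat.card S.cp.range = 1 := by
        have := conj_pow (a := y⁻¹) (b := x) (i := Nat.card S.cp.range)
        rw [inv_inv] at this
        rw [this, hx, mul_one, inv_mul_cancel]
      have h3 : ν (S.mp (y⁻¹ * x * y)) ^ Nat.card S.cp.range = 1 := by
        rw [← h1, ← map_pow, show (⟨_, hy⟩ : P.comap S.cp) ^ Nat.card S.cp.range = 1 from
          Subtype.ext (by simpa using h2), map_one]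
      have h4 : ν (S.mp (y⁻¹ * x * y)) ^ Nat.card S.cp.ker = 1 := by
        rw [← map_pow, pow_card_eq_one', map_one]
      exact orderOf_eq_one_iff.1 (Nat.eq_one_of_dvd_coprimes S.cop
        (orderOf_dvd_of_pow_eq_one h4) (orderOf_dvd_of_pow_eq_one h3))
    rw [extendByZero_mem _ _ hy, extendByZero_mem _ _ hy, lFun, lFun]
    simp [hone hl, hone hm]
  · rw [extendByZero_not_mem _ _ hy, extendByZero_not_mem _ _ hy]

/-- The sum of the conjugates of a linear character. -/
noncomputable def conjSum (lam : S.cp.ker →* ℂˣ) : S.cp.ker → ℂ :=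
  ∑ y : L, fun a => (conjLin lam y a : ℂ)

theorem indFun_ker_eq {K : Subgroup L} (hK : S.cp.ker ≤ K) (lam : S.cp.ker →* ℂˣ) (f : K → ℂ)
    (hf : ∀ (a : K) (ha : (a : L) ∈ S.cp.ker), f a = lam ⟨a, ha⟩) :
    (fun a : S.cp.ker => indFun K f (a : L)) = (Nat.card K : ℂ)⁻¹ • S.conjSum lam := by
  funext a
  rw [indFun, Pi.smul_apply, smul_eq_mul, conjSum, Finset.sum_apply]
  refine congrArg _ (Fintype.sum_equiv (Equiv.inv L) _ _ fun y => ?_)
  have h : y⁻¹ * (a : L) * y⁻¹⁻¹ ∈ S.cp.ker := (MonoidHom.normal_ker S.cp).conj_mem _ a.2 _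
  have h' : y⁻¹ * (a : L) * y ∈ S.cp.ker := by simpa using h
  rw [extendByZero_mem _ _ (hK h'), hf ⟨_, hK h'⟩ h', Equiv.inv_apply, conjLin_apply lam y⁻¹ a h]
  simp

theorem psi_ker {lam : S.cp.ker →* ℂˣ} {P : Subgroup L} (hP : S.St lam = P) (β : P →* ℂˣ) :
    (fun a : S.cp.ker => S.psi lam P β (a : L)) =
      (Nat.card (P.comap S.cp) : ℂ)⁻¹ • S.conjSum lam :=
  S.indFun_ker_eq (S.ker_le_comap P) lam _ fun a ha => by
    rw [S.lFun_eq (S.le_of_St hP)]
    exact congrArg (fun z : ℂˣ => (z : ℂ)) (S.lHom_ker _ β a ha)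

open Classical in
theorem inner_lin {H : Type u} [Group H] [Finite H] (f g : H →* ℂˣ) :
    classInner (fun a => (f a : ℂ)) (fun a => (g a : ℂ)) = if f = g then 1 else 0 := by
  have h := classInner_irr (G := H) ⟨_, isIrrCharacter_lin f⟩ ⟨_, isIrrCharacter_lin g⟩
  dsimp only at h
  refine h.trans ?_
  exact if_congr ⟨fun e => MonoidHom.ext fun a => Units.ext (congrFun (congrArg Subtype.val e) a),
    fun e => by subst e; rfl⟩ rfl rfl

theorem mem_orbitLin {lam mu : S.cp.ker →* ℂˣ} :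
    mu ∈ orbitLin lam ↔ ∃ y : L, conjLin lam y = mu := by
  simp [orbitLin]

open Classical in
theorem inner_conjSum (lam mu : S.cp.ker →* ℂˣ) :
    classInner (S.conjSum lam) (fun a => (mu a : ℂ)) =
      if mu ∈ orbitLin lam then (Nat.card (linStab lam) : ℂ) else 0 := by
  rw [conjSum, classInner_sum_left]
  refine (Finset.sum_congr rfl fun y _ => inner_lin (conjLin lam y) mu).trans ?_
  rw [Finset.sum_boole]
  split_ifs with h
  · obtain ⟨z, rfl⟩ := S.mem_orbitLin.1 h
    rw [Nat.card_eq_fintype_card, ← Fintype.card_subtype]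
    refine congrArg _ (Fintype.card_congr ((Equiv.mulRight z⁻¹).subtypeEquiv fun y => ?_))
    rw [Equiv.coe_mulRight]
    show conjLin lam y = conjLin lam z ↔ conjLin lam (y * z⁻¹) = lam
    rw [conjLin_mul]
    constructor
    · intro e; rw [e, ← conjLin_mul, mul_inv_cancel, conjLin_one]
    · intro e
      conv_rhs => rw [← e]
      simp [← conjLin_mul]
  · rw [Nat.cast_eq_zero, Finset.card_eq_zero, Finset.filter_eq_empty_iff]
    exact fun y _ e => h (S.mem_orbitLin.2 ⟨y, e⟩)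

open Classical in
theorem psi_res {lam : S.cp.ker →* ℂˣ} {P : Subgroup L} (hP : S.St lam = P) (β : P →* ℂˣ)
    (mu : S.cp.ker →* ℂˣ) :
    classInner (fun a : S.cp.ker => S.psi lam P β (a : L)) (fun a => (mu a : ℂ)) =
      if mu ∈ orbitLin lam then 1 else 0 := by
  rw [S.psi_ker hP, classInner_smul_left, S.inner_conjSum, S.linStab_of_St hP, mul_ite, mul_zero,
    inv_mul_cancel₀ (by exact_mod_cast Nat.card_pos.ne')]

theorem mem_orbitLin_self (lam : S.cp.ker →* ℂˣ) : lam ∈ orbitLin lam := by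
  exact S.mem_orbitLin.2 ⟨1, conjLin_one lam⟩

theorem psi_ne {lam mu : S.cp.ker →* ℂˣ} {P Q : Subgroup L} (hP : S.St lam = P) (hQ : S.St mu = Q)
    (h : mu ∉ orbitLin lam) (β : P →* ℂˣ) (γ : Q →* ℂˣ) :
    classInner (S.psi lam P β) (S.psi mu Q γ) = 0 := by
  refine classInner_irr_ne (χ := ⟨_, S.psi_irr hP β⟩) (ψ := ⟨_, S.psi_irr hQ γ⟩) fun e => ?_
  have e' : S.psi lam P β = S.psi mu Q γ := congrArg Subtype.val e
  have h1 := S.psi_res hP β mu
  rw [if_neg h, e', S.psi_res hQ γ mu, if_pos (S.mem_orbitLin_self mu)] at h1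
  exact one_ne_zero h1

theorem orbitLin_symm {lam mu : S.cp.ker →* ℂˣ} (h : mu ∈ orbitLin lam) : lam ∈ orbitLin mu := by
  classical
  obtain ⟨z, rfl⟩ := S.mem_orbitLin.1 h
  exact S.mem_orbitLin.2 ⟨z⁻¹, by
    rw [← conjLin_mul, mul_inv_cancel, conjLin_one]⟩

theorem conjLin_inv (lam : S.cp.ker →* ℂˣ) (y : L) : conjLin lam⁻¹ y = (conjLin lam y)⁻¹ := by
  ext a
  simp [conjLin]

theorem St_inv (lam : S.cp.ker →* ℂˣ) : S.St lam⁻¹ = S.St lam := by
  have h : linStab lam⁻¹ = linStab lam := Subgroup.ext fun y => by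
    show conjLin lam⁻¹ y = lam⁻¹ ↔ conjLin lam y = lam
    rw [S.conjLin_inv]
    exact inv_inj (a := conjLin lam y) (b := lam)
  rw [St, St, h]

theorem inv_notMem_orbitLin (hodd : Odd (Nat.card L)) {lam : S.cp.ker →* ℂˣ} (h1 : lam ≠ 1) :
    lam⁻¹ ∉ orbitLin lam := by
  classical
  intro h
  obtain ⟨y, hy⟩ := S.mem_orbitLin.1 h
  have h2 : y ^ 2 ∈ linStab lam := by
    show conjLin lam (y ^ 2) = lam
    rw [pow_two, conjLin_mul, hy, S.conjLin_inv, hy]
    exact inv_inv lam
  obtain ⟨k, hk⟩ : Odd (orderOf y) := hodd.of_dvd_nat (orderOf_dvd_natCard y)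
  have hy' : y ∈ linStab lam := by
    have := pow_mem h2 (k + 1)
    rwa [← pow_mul, show 2 * (k + 1) = orderOf y + 1 by omega, pow_succ, pow_orderOf_eq_one,
      one_mul] at this
  have h3 : lam⁻¹ = lam := hy.symm.trans hy'
  refine h1 (MonoidHom.ext fun a => orderOf_eq_one_iff.1 ?_)
  have e2 : lam a ^ 2 = 1 := by
    rw [pow_two]
    nth_rw 1 [← h3]
    rw [MonoidHom.inv_apply, inv_mul_cancel]
  have e3 : lam a ^ Nat.card S.cp.ker = 1 := by rw [← map_pow, pow_card_eq_one', map_one]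
  have hoddM : Odd (Nat.card S.cp.ker) := hodd.of_dvd_nat (Subgroup.card_subgroup_dvd_card _)
  exact Nat.eq_one_of_dvd_coprimes (Nat.coprime_two_left.2 hoddM)
    (orderOf_dvd_of_pow_eq_one e2) (orderOf_dvd_of_pow_eq_one e3)

theorem not_mem_orbitLin_inv {lam mu : S.cp.ker →* ℂˣ} (h : mu ∉ orbitLin lam) :
    mu⁻¹ ∉ orbitLin lam⁻¹ := by
  classical
  intro h'
  obtain ⟨z, hz⟩ := S.mem_orbitLin.1 h'
  refine h (S.mem_orbitLin.2 ⟨z, ?_⟩)
  rw [S.conjLin_inv] at hz
  exact inv_inj.1 hz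

/-- Induction from the kernel. -/
noncomputable def indM (lam : S.cp.ker →* ℂˣ) : L → ℂ := indFun S.cp.ker fun a => (lam a : ℂ)

open Classical in
theorem indM_inner (lam mu : S.cp.ker →* ℂˣ) :
    classInner (S.indM lam) (S.indM mu) =
      if lam ∈ orbitLin mu then (Nat.card (S.St mu) : ℂ) else 0 := by
  rw [indM, indM, classInner_indFun _ _ _ (isClassFunction_indFun _ _),
    S.indFun_ker_eq le_rfl mu _ (fun a ha => rfl), classInner_smul_right, ← classInner_conj,
    S.inner_conjSum]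
  split_ifs
  · rw [map_inv₀, map_natCast, map_natCast, ← S.comap_St mu, S.card_comap (P := S.St mu) inf_le_right,
      Nat.cast_mul, inv_mul_cancel_left₀ (by exact_mod_cast Nat.card_pos.ne')]
  · rw [map_zero, mul_zero]

theorem card_hom_of_comm {P : Subgroup L} (hP : ∀ a b : P, a * b = b * a) :
    Nat.card (P →* ℂˣ) = Nat.card P := by
  letI : CommGroup P := { (inferInstance : Group P) with mul_comm := hP }
  exact CommGroup.card_monoidHom_of_hasEnoughRootsOfUnity P ℂ

end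

end Split

end CfsgLib.Bender.Full.PermM
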