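import Cfsg.Agent.Lib.Bender.Full.PermM.Setup
import Cfsg.Agent.Lib.Bender.End.TI
import Cfsg.Agent.Lib.Char.Perm
import Cfsg.Agent.Lib.Char.NormTwo

/-!
# The constituents of a permutation character with a regular abelian subgroup

Each linear character `lam` of the regular subgroup lies in exactly one constituent `D.F lam`.
-/

set_option autoImplicit false
set_option linter.unusedSectionVars false

namespace CfsgLib.Bender.Full.PermM

open Cfsg CfsgLib.Char CfsgLib.Bender.End Subgroup
open scoped ComplexConjugate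

attribute [local instance 1100] Fintype.ofFinite

universe u v

variable {N : Type u} [Group N] {X : Type v} [MulAction N X] {L : Subgroup N}

/-- `S.cp.ker` acts regularly on `X`, its nontrivial elements fix only the base coset of `L`, and
the only constituent of odd degree prime to its order is the trivial one. -/
structure Data (S : Split L) (x0 : X) : Prop where
  odd : Odd (Nat.card L)
  regular : ∀ x : X, ∃! a : S.cp.ker, ((a : L) : N) • x0 = x
  stab : ∀ y : L, (y : N) • x0 = x0 ↔ y ∈ S.cp.range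
  base : ∀ a : S.cp.ker, a ≠ 1 → OnlyBase L ((a : L) : N)
  burn : ∀ (χ : IrrCharacter N) (d : ℕ), (χ : N → ℂ) 1 = d → Odd d →
    d.Coprime (Nat.card S.cp.ker) → (χ : N → ℂ) = fun _ => 1

instance finite_hom_units {H : Type u} [Group H] [Finite H] : Finite (H →* ℂˣ) :=
  Finite.of_equiv _ (linearCharEquiv (G := H)).symm

/-- A difference of irreducible characters orthogonal to another one shares nothing with it. -/
theorem disjoint_of_orth {G : Type u} [Group G] [Finite G] {μ ν μ' ν' : IrrCharacter G}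
    (h : classInner ((μ : G → ℂ) - (ν : G → ℂ)) ((μ' : G → ℂ) - (ν' : G → ℂ)) = 0) (hμ : μ ≠ ν)
    (hμ' : μ' ≠ ν') : μ ≠ μ' ∧ μ ≠ ν' ∧ ν ≠ μ' ∧ ν ≠ ν' := by
  classical
  simp only [classInner_sub_left, classInner_sub_right, classInner_irr] at h
  refine ⟨?_, ?_, ?_, ?_⟩ <;> intro e <;> subst e <;>
    simp [hμ, hμ', Ne.symm hμ, Ne.symm hμ'] at h <;> split_ifs at h <;> norm_num at h

variable [Finite N] [Finite X]

/-- An irreducible constituent of a character is seen on every subgroup. -/
theorem inner_res_ne_zero {H : Type u} [Group H] [Finite H] {M : Subgroup H} {f : H → ℂ}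
    (hf : IsCharacter H f) (ψ : IrrCharacter H) (lam : M →* ℂˣ)
    (hψ : classInner (fun a : M => (ψ : H → ℂ) a) (fun a => (lam a : ℂ)) ≠ 0)
    (h : classInner (ψ : H → ℂ) f ≠ 0) :
    classInner (fun a : M => f a) (fun a => (lam a : ℂ)) ≠ 0 := by
  choose n hn using fun κ : IrrCharacter H => classInner_isCharacter hf (isCharacter_irr κ)
  choose k hk using fun κ : IrrCharacter H =>
    classInner_isCharacter (isCharacter_comp (isCharacter_irr κ) M.subtype)
      (isCharacter_of_isIrr (isIrrCharacter_lin lam))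
  have he : classInner (fun a : M => f a) (fun a => (lam a : ℂ)) =
      ((∑ κ : IrrCharacter H, n κ * k κ : ℕ) : ℂ) := by
    have e : (fun a : M => f a) =
        ∑ κ : IrrCharacter H, (n κ : ℂ) • fun a : M => (κ : H → ℂ) a := by
      funext a
      conv_lhs => rw [classFun_expand (isClassFunction_of_isCharacter hf)]
      simp [hn]
    rw [e, classInner_sum_left, Nat.cast_sum]
    refine Finset.sum_congr rfl fun κ _ => ?_
    rw [classInner_smul_left, Nat.cast_mul]
    exact congrArg _ (hk κ)
  rw [he, Nat.cast_ne_zero]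
  intro h0
  rcases mul_eq_zero.1 ((Finset.sum_eq_zero_iff.1 h0) ψ (Finset.mem_univ _)) with e | e
  · apply h
    rw [← classInner_conj, hn ψ, e, Nat.cast_zero, map_zero]
  · apply hψ
    rw [show classInner (fun a : M => (ψ : H → ℂ) a) (fun a => (lam a : ℂ)) = (k ψ : ℂ) from hk ψ,
      e, Nat.cast_zero]

namespace Data

variable {S : Split L} {x0 : X} (D : Data S x0)
include D

theorem ker_smul_eq (a : S.cp.ker) {x : X} (h : ((a : L) : N) • x = x) : a = 1 := by
  obtain ⟨b, hb, -⟩ := D.regular x
  have e : a * b = b := (D.regular x).unique (by rw [Subgroup.coe_mul, Subgroup.coe_mul, mul_smul, hb, h]) hb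
  exact mul_eq_right.1 e

theorem card_ker : Nat.card S.cp.ker = Nat.card X :=
  Nat.card_congr (Equiv.ofBijective (fun a : S.cp.ker => ((a : L) : N) • x0)
    ⟨fun a b h => (D.regular _).unique h rfl, fun x => ⟨_, (D.regular x).choose_spec.1⟩⟩)

theorem pretrans : MulAction.IsPretransitive N X := by
  refine ⟨fun x y => ?_⟩
  obtain ⟨a, ha, -⟩ := D.regular x
  obtain ⟨b, hb, -⟩ := D.regular y
  exact ⟨((b : L) : N) * ((a : L) : N)⁻¹, by rw [mul_smul, ← ha, inv_smul_smul, hb]⟩

theorem card_orbits : Nat.card (MulAction.orbitRel.Quotient N X) = 1 := by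
  haveI := D.pretrans
  rw [Nat.card_eq_one_iff_unique]
  refine ⟨⟨fun p q => ?_⟩, ⟨Quotient.mk _ x0⟩⟩
  induction p using Quotient.inductionOn with
  | _ x => induction q using Quotient.inductionOn with
    | _ y => exact Quotient.sound (MulAction.exists_smul_eq N y x)

theorem perm_ker_inner (lam : S.cp.ker →* ℂˣ) :
    classInner (fun a : S.cp.ker => permChar N X ((a : L) : N)) (fun a => (lam a : ℂ)) = 1 := by
  have hz : ∀ a : S.cp.ker, a ≠ 1 →
      permChar N X ((a : L) : N) * conj (lam a : ℂ) = 0 := fun a ha => by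
    have : IsEmpty (MulAction.fixedBy X ((a : L) : N)) := ⟨fun x => ha (D.ker_smul_eq a x.2)⟩
    rw [permChar, Nat.card_of_isEmpty, Nat.cast_zero, zero_mul]
  rw [classInner, Finset.sum_eq_single 1 (fun a _ ha => hz a ha)
    (fun h => absurd (Finset.mem_univ _) h)]
  have h1 : MulAction.fixedBy X (((1 : S.cp.ker) : L) : N) = Set.univ := by
    ext x; simp [MulAction.fixedBy]
  rw [permChar, h1, Nat.card_univ, ← D.card_ker, map_one, Units.val_one, map_one, mul_one,
    inv_mul_cancel₀ (by exact_mod_cast Nat.card_pos.ne')]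

/-- A constituent of the permutation character. -/
def Cons (_ : Data S x0) (χ : IrrCharacter N) : Prop := classInner (permChar N X) (χ : N → ℂ) ≠ 0

theorem exists_F (lam : S.cp.ker →* ℂˣ) : ∃ χ : IrrCharacter N,
    classInner (permChar N X) (χ : N → ℂ) = 1 ∧ ∀ χ' : IrrCharacter N, D.Cons χ' →
      (classInner (fun a : S.cp.ker => (χ' : N → ℂ) ((a : L) : N)) (fun a => (lam a : ℂ)) ≠ 0 ↔
        χ' = χ) ∧
      (χ' = χ → classInner (fun a : S.cp.ker => (χ' : N → ℂ) ((a : L) : N))
        (fun a => (lam a : ℂ)) = 1) := by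
  have hπ := isCharacter_permChar (G := N) X
  choose n hn using fun χ : IrrCharacter N => classInner_isCharacter hπ (isCharacter_irr χ)
  choose k hk using fun χ : IrrCharacter N =>
    classInner_isCharacter (isCharacter_comp (isCharacter_comp (isCharacter_irr χ) L.subtype)
      S.cp.ker.subtype) (isCharacter_of_isIrr (isIrrCharacter_lin lam))
  have hk' : ∀ χ : IrrCharacter N,
      classInner (fun a : S.cp.ker => (χ : N → ℂ) ((a : L) : N)) (fun a => (lam a : ℂ)) =
        (k χ : ℂ) := hk
  have hsum : ∑ χ : IrrCharacter N, n χ * k χ = 1 := by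
    have h := D.perm_ker_inner lam
    have e : (fun a : S.cp.ker => permChar N X ((a : L) : N)) =
        ∑ χ : IrrCharacter N, (n χ : ℂ) • fun a : S.cp.ker => (χ : N → ℂ) ((a : L) : N) := by
      funext a
      conv_lhs => rw [classFun_expand (isClassFunction_of_isCharacter hπ)]
      simp [hn]
    rw [e, classInner_sum_left] at h
    simp only [classInner_smul_left, hk'] at h
    exact_mod_cast h
  obtain ⟨χ, -, hχ⟩ := Finset.exists_ne_zero_of_sum_ne_zero (by rw [hsum]; exact one_ne_zero)
  have hle := Finset.single_le_sum (f := fun χ => n χ * k χ) (fun _ _ => Nat.zero_le _)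
    (Finset.mem_univ χ)
  have h1 : n χ * k χ = 1 := by
    have : n χ * k χ ≤ 1 := hsum ▸ hle
    omega
  obtain ⟨hn1, hk1⟩ : n χ = 1 ∧ k χ = 1 := mul_eq_one.1 h1
  refine ⟨χ, by rw [hn, hn1, Nat.cast_one], fun χ' hc => ⟨⟨fun hne => ?_, ?_⟩, ?_⟩⟩
  · by_contra hne'
    rw [hk', Nat.cast_ne_zero] at hne
    unfold Data.Cons at hc
    rw [hn, Nat.cast_ne_zero] at hc
    have h2 := Finset.sum_le_sum_of_subset (f := fun χ => n χ * k χ)
      (Finset.subset_univ ({χ', χ} : Finset (IrrCharacter N)))
    rw [Finset.sum_pair hne', hsum, h1] at h2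
    have : 0 < n χ' * k χ' := Nat.mul_pos (Nat.pos_of_ne_zero hc) (Nat.pos_of_ne_zero hne)
    omega
  · rintro rfl
    rw [hk', hk1, Nat.cast_one]
    exact one_ne_zero
  · rintro rfl
    rw [hk', hk1, Nat.cast_one]

/-- The constituent containing `lam`. -/
noncomputable def F (lam : S.cp.ker →* ℂˣ) : IrrCharacter N := (D.exists_F lam).choose

theorem F_one_inner (lam : S.cp.ker →* ℂˣ) :
    classInner (permChar N X) (D.F lam : N → ℂ) = 1 := (D.exists_F lam).choose_spec.1

theorem F_cons (lam : S.cp.ker →* ℂˣ) : D.Cons (D.F lam) := by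
  rw [Cons, D.F_one_inner]
  exact one_ne_zero

theorem F_iff {χ : IrrCharacter N} (hc : D.Cons χ) (lam : S.cp.ker →* ℂˣ) :
    classInner (fun a : S.cp.ker => (χ : N → ℂ) ((a : L) : N)) (fun a => (lam a : ℂ)) ≠ 0 ↔
      χ = D.F lam :=
  ((D.exists_F lam).choose_spec.2 χ hc).1

open Classical in
theorem F_spec {χ : IrrCharacter N} (hc : D.Cons χ) (lam : S.cp.ker →* ℂˣ) :
    classInner (fun a : S.cp.ker => (χ : N → ℂ) ((a : L) : N)) (fun a => (lam a : ℂ)) =
      if χ = D.F lam then 1 else 0 := by
  split_ifs with h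
  · exact ((D.exists_F lam).choose_spec.2 χ hc).2 h
  · by_contra hne
    exact h ((D.F_iff hc lam).1 hne)

open Classical in
/-- The degree of a constituent is the size of its fibre. -/
theorem degree {χ : IrrCharacter N} (hc : D.Cons χ) :
    (χ : N → ℂ) 1 = ((Finset.univ.filter fun lam => χ = D.F lam).card : ℂ) := by
  have hcl : IsClassFunction S.cp.ker fun a => (χ : N → ℂ) ((a : L) : N) :=
    isClassFunction_of_isCharacter (isCharacter_comp (isCharacter_comp (isCharacter_irr χ) L.subtype)
      S.cp.ker.subtype)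
  have h := congrFun (classFun_expand hcl) 1
  simp only [Subgroup.coe_one, Finset.sum_apply, Pi.smul_apply, smul_eq_mul,
    degree_one_of_comm S.comm, mul_one] at h
  rw [h, ← Finset.sum_boole]
  refine (Fintype.sum_equiv
    (linearCharEquiv.trans (Equiv.subtypeUnivEquiv (degree_one_of_comm S.comm))) _ _ fun lam => ?_).symm
  exact (D.F_spec hc lam).symm

theorem exists_F_eq {χ : IrrCharacter N} (hc : D.Cons χ) : ∃ lam, χ = D.F lam := by
  classical
  by_contra h
  push Not at h
  apply irr_one_ne_zero χ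
  rw [D.degree hc, Finset.filter_eq_empty_iff.2 fun lam _ => h lam, Finset.card_empty, Nat.cast_zero]

theorem cons_inner {χ : IrrCharacter N} (hc : D.Cons χ) :
    classInner (permChar N X) (χ : N → ℂ) = 1 := by
  obtain ⟨lam, rfl⟩ := D.exists_F_eq hc
  exact D.F_one_inner lam

theorem F_one : (D.F 1 : N → ℂ) = fun _ => 1 := by
  let one : IrrCharacter N := ⟨fun _ => 1, isIrrCharacter_one⟩
  have hc : D.Cons one := by
    show classInner (permChar N X) (fun _ => 1) ≠ 0
    rw [classInner_permChar_one, D.card_orbits, Nat.cast_one]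
    exact one_ne_zero
  have h : one = D.F 1 := (D.F_iff hc 1).1 (by
    show classInner (fun _ : S.cp.ker => (1 : ℂ)) (fun a => ((1 : S.cp.ker →* ℂˣ) a : ℂ)) ≠ 0
    have h := Split.inner_lin (1 : S.cp.ker →* ℂˣ) 1
    simp only [MonoidHom.one_apply, Units.val_one, if_true] at h ⊢
    rw [h]
    exact one_ne_zero)
  exact (congrArg Subtype.val h).symm

theorem F_inv (lam : S.cp.ker →* ℂˣ) :
    (D.F lam⁻¹ : N → ℂ) = Cfsg.conjFun (D.F lam : N → ℂ) := by
  let χ : IrrCharacter N := ⟨_, isIrrCharacter_starFun (D.F lam)⟩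
  have hπ : (permChar N X) = Cfsg.conjFun (permChar N X) := funext fun g => (conj_permChar X g).symm
  have hc : D.Cons χ := by
    show classInner (permChar N X) (Cfsg.conjFun (D.F lam : N → ℂ)) ≠ 0
    rw [hπ, classInner_starFun, D.F_one_inner, map_one]
    exact one_ne_zero
  have hl : (fun a : S.cp.ker => ((lam⁻¹ : S.cp.ker →* ℂˣ) a : ℂ)) =
      Cfsg.conjFun fun a => (lam a : ℂ) := funext fun a => by
    rw [Cfsg.conjFun, MonoidHom.inv_apply, Units.val_inv_eq_inv_val]
    refine (conj_eq_inv_of_pow_eq_one (Nat.card_pos (α := S.cp.ker)).ne' ?_).symm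
    rw [← Units.val_pow_eq_pow_val, ← map_pow, pow_card_eq_one', map_one, Units.val_one]
  have h : χ = D.F lam⁻¹ := (D.F_iff hc _).1 (by
    show classInner (Cfsg.conjFun fun a : S.cp.ker => (D.F lam : N → ℂ) ((a : L) : N)) _ ≠ 0
    rw [hl, classInner_starFun, D.F_spec (D.F_cons lam) lam, if_pos rfl, map_one]
    exact one_ne_zero)
  exact (congrArg Subtype.val h).symm

theorem stab_inner {lam : S.cp.ker →* ℂˣ} {P : Subgroup L} (hP : S.St lam = P) (β : P →* ℂˣ)
    [Decidable (β = 1)] :
    classInner (S.psi lam P β) (fun x : L => permChar N X (x : N)) = if β = 1 then 1 else 0 := by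
  have hle := S.le_of_St hP
  have hr := S.range_of_St hP
  rw [Split.psi, classInner_indFun _ _ _ fun g h => by
    show permChar N X ((h * g * h⁻¹ : L) : N) = permChar N X (g : N)
    exact isClassFunction_of_isCharacter (isCharacter_permChar X) (g : N) (h : N)]
  set K := P.comap S.cp with hK
  haveI : MulAction.IsPretransitive K X := by
    refine ⟨fun x y => ?_⟩
    obtain ⟨a, ha, -⟩ := D.regular x
    obtain ⟨b, hb, -⟩ := D.regular y
    refine ⟨⟨(b : L) * (a : L)⁻¹, mul_mem (S.ker_le_comap P b.2) (inv_mem (S.ker_le_comap P a.2))⟩, ?_⟩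
    show (((b : L) * (a : L)⁻¹ : L) : N) • x = y
    rw [Subgroup.coe_mul, Subgroup.coe_inv, mul_smul, ← ha, inv_smul_smul, hb]
  have e : (fun h : K => permChar N X ((h : L) : N)) = permChar K X := rfl
  rw [e, permChar_eq_indFun X x0, classInner_indFun_right _ _ _
    (isClassFunction_of_isCharacter (by
      rw [S.lFun_eq hle]; exact isCharacter_of_isIrr (isIrrCharacter_lin _)))]
  set T := MulAction.stabilizer K x0
  have hT : ∀ y : K, y ∈ T ↔ (y : L) ∈ S.cp.range := fun y => D.stab (y : L)
  have h1 := Split.inner_lin ((S.lHom hle β).comp T.subtype) (1 : T →* ℂˣ)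
  simp only [MonoidHom.one_apply, Units.val_one, MonoidHom.coe_comp, Function.comp_apply,
    Subgroup.coe_subtype] at h1
  rw [S.lFun_eq hle]
  refine h1.trans (if_congr ⟨fun h => ?_, fun h => ?_⟩ rfl rfl)
  · ext p : 1
    have hp : (p : L) ∈ K := by rw [hK, Subgroup.mem_comap, S.fixed (hr p.2)]; exact p.2
    have hv := DFunLike.congr_fun h ⟨⟨p, hp⟩, (hT _).2 (hr p.2)⟩
    simp only [MonoidHom.comp_apply, Subgroup.coe_subtype, Split.lHom, MonoidHom.mk'_apply,
      S.mp_of_range (hr p.2), map_one, one_mul, MonoidHom.one_apply] at hv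
    exact (congrArg β (Subtype.ext (S.fixed (hr p.2)).symm)).trans hv
  · subst h
    ext y : 1
    simp [Split.lHom, S.mp_of_range ((hT _).1 y.2)]

/-- How the induced characters meet the constituents. -/
theorem psi_cons {lam : S.cp.ker →* ℂˣ} {P : Subgroup L} (hP : S.St lam = P) (β : P →* ℂˣ)
    {χ : IrrCharacter N} (hc : D.Cons χ) [Decidable (β = 1 ∧ χ = D.F lam)] :
    classInner (S.psi lam P β) (fun x : L => (χ : N → ℂ) x) =
      if β = 1 ∧ χ = D.F lam then 1 else 0 := by
  classical
  have key : ∀ χ' : IrrCharacter N, D.Cons χ' → χ' ≠ D.F lam →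
      classInner (S.psi lam P β) (fun x : L => (χ' : N → ℂ) x) = 0 := by
    intro χ' hc' hne
    by_contra h0
    refine hne ((D.F_iff hc' lam).1 (inner_res_ne_zero
      (isCharacter_comp (isCharacter_irr χ') L.subtype) ⟨_, S.psi_irr hP β⟩ lam ?_ h0))
    rw [S.psi_res hP β lam, if_pos (S.mem_orbitLin_self lam)]
    exact one_ne_zero
  by_cases hχ : χ = D.F lam
  · subst hχ
    have h := D.stab_inner hP β
    have e : (fun x : L => permChar N X (x : N)) =
        ∑ χ' : IrrCharacter N, classInner (permChar N X) (χ' : N → ℂ) •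
          fun x : L => (χ' : N → ℂ) x := by
      funext x
      conv_lhs => rw [classFun_expand (isClassFunction_of_isCharacter (isCharacter_permChar X))]
      simp
    rw [e, classInner_sum_right, Finset.sum_eq_single (D.F lam) (fun χ' _ hne => ?_)
      (fun hx => absurd (Finset.mem_univ _) hx), classInner_smul_right, D.F_one_inner, map_one,
      one_mul] at h
    · rw [h]
      exact if_congr (by simp) rfl rfl
    · rw [classInner_smul_right]
      by_cases hc' : D.Cons χ'
      · rw [key χ' hc' hne, mul_zero]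
      · rw [not_not.1 hc', map_zero, zero_mul]
  · rw [key χ hc hχ, if_neg fun h => hχ h.2]

theorem F_orbit {lam mu : S.cp.ker →* ℂˣ} (h : mu ∈ orbitLin lam) : D.F lam = D.F mu := by
  classical
  refine (D.F_iff (D.F_cons lam) mu).1 (inner_res_ne_zero
    (isCharacter_comp (isCharacter_irr (D.F lam)) L.subtype)
    ⟨S.psi lam (S.St lam) 1, S.psi_irr rfl 1⟩ mu ?_ ?_)
  · rw [S.psi_res (lam := lam) rfl 1 mu, if_pos h]
    exact one_ne_zero
  · show classInner (S.psi lam _ 1) (fun x : L => (D.F lam : N → ℂ) x) ≠ 0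
    rw [D.psi_cons (lam := lam) rfl 1 (D.F_cons lam), if_pos ⟨rfl, rfl⟩]
    exact one_ne_zero

/-! ### Class functions vanishing on the elements of order prime to the kernel -/

theorem supported {f : L → ℂ} (hf : ∀ x : L, x ^ Nat.card S.cp.range = 1 → f x = 0) :
    Supported L f := fun x hx => hf x (by
  by_contra hne
  have hm := D.base ⟨_, S.pow_mem_ker x⟩ fun e => hne (congrArg Subtype.val e)
  exact hx (OnlyBase.of_pow x.2 (k := Nat.card S.cp.range) (by simpa using hm)))

/-- `psi lam P β - psi mu P β`. -/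
noncomputable def delta (_ : Data S x0) (lam mu : S.cp.ker →* ℂˣ) (P : Subgroup L) (β : P →* ℂˣ) :
    L → ℂ :=
  S.psi lam P β - S.psi mu P β

theorem delta_gen {lam mu : S.cp.ker →* ℂˣ} {P : Subgroup L} (hl : S.St lam = P)
    (hm : S.St mu = P) (β : P →* ℂˣ) : IsGeneralizedCharacter L (D.delta lam mu P β) :=
  ⟨_, _, isCharacter_of_isIrr (S.psi_irr hl β), isCharacter_of_isIrr (S.psi_irr hm β), rfl⟩

theorem delta_supported {lam mu : S.cp.ker →* ℂˣ} {P : Subgroup L} (hl : S.St lam = P)
    (hm : S.St mu = P) (β : P →* ℂˣ) : Supported L (D.delta lam mu P β) :=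
  D.supported fun x hx => by
    rw [delta, Pi.sub_apply, S.psi_eq_of_pow (S.le_of_St hl) (S.le_of_St hm) β hx, sub_self]

theorem inner_delta {f : L → ℂ} {lam mu : S.cp.ker →* ℂˣ} {P : Subgroup L} (hl : S.St lam = P)
    (hm : S.St mu = P) (β : P →* ℂˣ) :
    classInner (indFun L f) (indFun L (D.delta lam mu P β)) = classInner f (D.delta lam mu P β) :=
  classInner_indFun_supported f (isClassFunction_of_isGeneralized (D.delta_gen hl hm β))
    (D.delta_supported hl hm β)

theorem delta_split {lam mu : S.cp.ker →* ℂˣ} {P : Subgroup L} (hl : S.St lam = P)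
    (hm : S.St mu = P) (h : mu ∉ orbitLin lam) (β : P →* ℂˣ) :
    ∃ μ ν : IrrCharacter N, μ ≠ ν ∧
      indFun L (D.delta lam mu P β) = (μ : N → ℂ) - (ν : N → ℂ) := by
  classical
  refine exists_sub_of_norm_two (isGeneralizedCharacter_indFun L (D.delta_gen hl hm β)) ?_ ?_
  · rw [D.inner_delta hl hm β, delta, classInner_sub_left, classInner_sub_right,
      classInner_sub_right, S.psi_inner hl, S.psi_inner hm, S.psi_ne hl hm h,
      S.psi_ne hm hl (fun h' => h (S.orbitLin_symm h'))]
    norm_num
  · rw [indFun_one, delta, Pi.sub_apply,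
      S.psi_eq_of_pow (S.le_of_St hl) (S.le_of_St hm) β (one_pow _), sub_self, mul_zero]

theorem indFun_inner_res (f : L → ℂ) (χ : IrrCharacter N) :
    classInner (indFun L f) (χ : N → ℂ) = classInner f (fun x : L => (χ : N → ℂ) x) :=
  classInner_indFun L f _ (isClassFunction_irr χ)

/-- The image of a difference with distinct constituents. -/
theorem delta_one {lam mu : S.cp.ker →* ℂˣ} {P : Subgroup L} (hl : S.St lam = P)
    (hm : S.St mu = P) (h : D.F lam ≠ D.F mu) :
    indFun L (D.delta lam mu P 1) = (D.F lam : N → ℂ) - (D.F mu : N → ℂ) := by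
  classical
  obtain ⟨μ, ν, hne, e⟩ := D.delta_split hl hm (fun h' => h (D.F_orbit h')) 1
  have h1 := D.indFun_inner_res (D.delta lam mu P 1) (D.F lam)
  rw [e, delta, classInner_sub_left, classInner_sub_left, D.psi_cons hl 1 (D.F_cons lam),
    D.psi_cons hm 1 (D.F_cons lam), if_pos ⟨rfl, rfl⟩, if_neg fun h' => h h'.2, classInner_irr,
    classInner_irr] at h1
  have h2 := D.indFun_inner_res (D.delta lam mu P 1) (D.F mu)
  rw [e, delta, classInner_sub_left, classInner_sub_left, D.psi_cons hl 1 (D.F_cons mu),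
    D.psi_cons hm 1 (D.F_cons mu), if_neg fun h' => h h'.2.symm, if_pos ⟨rfl, rfl⟩, classInner_irr,
    classInner_irr] at h2
  have e1 : μ = D.F lam := by
    by_contra hh
    rw [if_neg hh] at h1
    split_ifs at h1 <;> norm_num at h1
  have e2 : ν = D.F mu := by
    by_contra hh
    rw [if_neg hh] at h2
    split_ifs at h2 <;> norm_num at h2
  rw [e, e1, e2]

end Data

end CfsgLib.Bender.Full.PermM
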